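import Groth.Agent.SubAvoid14.Extend
import Groth.Agent.CAlgSmall.FPExtend
import Groth.Agent.Coherent.FinitePres
import Groth.Agent.Coherent.FinMor
import Groth.Agent.KTop28.Basic
import Groth.Agent.KZeroLib.DevissageClosed
import Groth.Agent.DCat.FlatPull
import Groth.Agent.KPr28.Push

/-!
# Localization for `K₀` of coherent modules: the kernel of restriction to an open
-/

set_option autoImplicit false
set_option backward.isDefEq.respectTransparency false
set_option linter.style.haveILetI false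
set_option maxHeartbeats 400000

universe u

open scoped ZeroObject
open CategoryTheory CategoryTheory.Limits AlgebraicGeometry TopologicalSpace Groth.Agent.Coherent
  Groth.Agent.AssSch12

noncomputable section

namespace Groth.Agent.KLoc28

variable {X : Scheme.{u}}

local notation "St" => DerSch.stalkFunctor X

/-- The class of a coherent module. -/
abbrev cl {W : Scheme.{u}} (F : W.Modules) : SGA6.Kcoh W := KZero.clSub (fun G : W.Modules => Coh.IsCoh G) F

theorem preservesFiniteLimits_restrict {U : Scheme.{u}} (j : U ⟶ X) [IsOpenImmersion j] :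
    PreservesFiniteLimits (Scheme.Modules.restrictFunctor j) :=
  haveI : PreservesFiniteLimits (Scheme.Modules.pullback j) := DCat.FlatPull.preservesFiniteLimits_pullback j
  preservesFiniteLimits_of_natIso (Scheme.Modules.restrictFunctorIsoPullback j).symm

theorem preservesFiniteColimits_restrict {U : Scheme.{u}} (j : U ⟶ X) [IsOpenImmersion j] :
    PreservesFiniteColimits (Scheme.Modules.restrictFunctor j) := by
  haveI := (Scheme.Modules.restrictAdjunction j).leftAdjoint_preservesColimits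
  exact ⟨fun _ _ _ => inferInstance⟩

instance (U : X.Opens) : PreservesFiniteLimits (Scheme.Modules.restrictFunctor U.ι) := preservesFiniteLimits_restrict U.ι
instance (U : X.Opens) : PreservesFiniteColimits (Scheme.Modules.restrictFunctor U.ι) :=
  preservesFiniteColimits_restrict U.ι

theorem mapSub_clSub {W : Scheme.{u}} (F : X.Modules ⥤ W.Modules) [F.Additive] [PreservesFiniteLimits F]
    [PreservesFiniteColimits F] (P : ObjectProperty X.Modules) (Q : ObjectProperty W.Modules)
    (h : ∀ M, P M → Q (F.obj M)) {M : X.Modules} (hM : P M) :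
    SGA6.mapSub F P Q h (KZero.clSub P M) = KZero.clSub Q (F.obj M) := by
  rw [KZero.clSub, dif_pos hM]
  show QuotientAddGroup.map _ _ _ _ _ = _
  erw [QuotientAddGroup.map_mk]
  rw [KZero.clSub, dif_pos (h M hM), FreeAbelianGroup.map_of_apply]
  rfl

variable [IsNoetherian X] (U : X.Opens)

/-- Classes supported off `U`. -/
def off : AddSubgroup (SGA6.Kcoh X) :=
  AddSubgroup.closure {c | ∃ G : X.Modules, Coh.IsCoh G ∧ CohB1.support G ⊆ (U : Set X)ᶜ ∧ c = cl G}

variable {U}

local notation "Rs" => Scheme.Modules.restrictFunctor U.ι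

theorem support_off_of_isZero {M : X.Modules} (h : IsZero ((Rs).obj M)) : CohB1.support M ⊆ (U : Set X)ᶜ := by
  intro z hz hzU
  refine hz ?_
  haveI : IsIso ((Rs).map (0 : M ⟶ (0 : X.Modules))) :=
    ⟨0, h.eq_of_src _ _, ((Rs).map_isZero (isZero_zero X.Modules)).eq_of_src _ _⟩
  have hb := SubAvoid14.bijective_of_isIso_restrict (0 : M ⟶ (0 : X.Modules)) U hzU
  haveI : Subsingleton ((St z).obj (0 : X.Modules)) :=
    ModuleCat.subsingleton_of_isZero ((St z).map_isZero (isZero_zero _))
  exact hb.1.subsingleton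

theorem cl_mem_off {M : X.Modules} (hM : Coh.IsCoh M) (h : IsZero ((Rs).obj M)) : cl M ∈ off U :=
  AddSubgroup.subset_closure ⟨M, hM, support_off_of_isZero h, rfl⟩

theorem isZero_restrict_kernel {A B : X.Modules} (f : A ⟶ B) [Mono ((Rs).map f)] : IsZero ((Rs).obj (kernel f)) := by
  rw [IsZero.iff_id_eq_zero]
  haveI : Mono ((Rs).map (kernel.ι f)) := inferInstance
  rw [← cancel_mono ((Rs).map (kernel.ι f)), ← cancel_mono ((Rs).map f), Category.id_comp, zero_comp, zero_comp,
    ← Functor.map_comp, kernel.condition, Functor.map_zero]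

theorem isZero_restrict_cokernel {A B : X.Modules} (f : A ⟶ B) [Epi ((Rs).map f)] : IsZero ((Rs).obj (cokernel f)) := by
  rw [IsZero.iff_id_eq_zero]
  haveI : Epi ((Rs).map (cokernel.π f)) := inferInstance
  rw [← cancel_epi ((Rs).map (cokernel.π f)), ← cancel_epi ((Rs).map f), Category.comp_id, comp_zero, comp_zero,
    ← Functor.map_comp, cokernel.condition, Functor.map_zero]

/-- The class of the target of a map in terms of source, kernel and cokernel. -/
theorem cl_map {A B : X.Modules} (hA : Coh.IsCoh A) (hB : Coh.IsCoh B) (f : A ⟶ B) :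
    cl B = cl A - cl (kernel f) + cl (cokernel f) := by
  have hk := Coherent.isCoh_kernel f hA hB.1
  have hc := Coherent.isCoh_cokernel f hA.1 hB
  have hι : Coh.IsCoh (Abelian.image f) := Coherent.isCoh_kernel (cokernel.π f) hB hc.1
  let t := Abelian.factorThruImage f
  have h₁ : (ShortComplex.mk (kernel.ι t) t (kernel.condition _)).ShortExact := ShortComplex.ShortExact.mk'
    (ShortComplex.exact_of_f_is_kernel _ (kernelIsKernel _)) inferInstance inferInstance
  have hkt : Coh.IsCoh (kernel t) := Coherent.isCoh_kernel t hA hι.1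
  let ek : kernel f ≅ kernel t :=
    kernelIsoOfEq (Abelian.image.fac f).symm ≪≫ kernelCompMono t (Abelian.image.ι f)
  let S₂ : ShortComplex X.Modules :=
    ShortComplex.mk (Abelian.image.ι f) (cokernel.π f) (kernel.condition _)
  have h₂ : S₂.ShortExact := ShortComplex.ShortExact.mk'
    (ShortComplex.exact_of_f_is_kernel _ (kernelIsKernel _)) inferInstance inferInstance
  have e₁ : cl A = cl (kernel f) + cl (Abelian.image f) := by
    rw [cl, cl, cl, KTop28.cl_iso ek]; exact KTop28.cl_ses h₁ hkt hA hι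
  have e₂ : cl B = cl (Abelian.image f) + cl (cokernel f) := KTop28.cl_ses h₂ hι hB hc
  rw [e₂, e₁]; abel

/-- A map which is an isomorphism on `U` preserves classes up to classes supported off `U`. -/
theorem sub_mem_of_hom {A B : X.Modules} (hA : Coh.IsCoh A) (hB : Coh.IsCoh B) (f : A ⟶ B) [IsIso ((Rs).map f)] :
    cl B - cl A ∈ off U := by
  rw [cl_map hA hB f, show cl A - cl (kernel f) + cl (cokernel f) - cl A = cl (cokernel f) - cl (kernel f) by abel]
  exact sub_mem (cl_mem_off (Coherent.isCoh_cokernel f hA.1 hB) (isZero_restrict_cokernel f))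
    (cl_mem_off (Coherent.isCoh_kernel f hA hB.1) (isZero_restrict_kernel f))

/-- Classes of coherent modules with the same restriction. -/
theorem sub_mem_of_iso {A B : X.Modules} (hA : Coh.IsCoh A) (hB : Coh.IsCoh B) (e : (Rs).obj A ≅ (Rs).obj B) :
    cl B - cl A ∈ off U := by
  obtain ⟨A', ι, φ, -, hA', hι, hφ⟩ := SubAvoid14.exists_hom_extension A B hA hB U e.hom
  haveI := hι
  haveI : IsIso ((Rs).map φ) := by rw [hφ]; infer_instance
  have h := sub_mem (sub_mem_of_hom hA' hB φ) (sub_mem_of_hom (U := U) hA' hA ι)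
  rwa [sub_sub_sub_cancel_right] at h

/-- Coherent modules on an open extend. -/
theorem exists_ext (F : U.toScheme.Modules) (hF : Coh.IsCoh F) :
    ∃ G : X.Modules, Coh.IsCoh G ∧ Nonempty ((Rs).obj G ≅ F) := by
  haveI : Coh.IsQCoh (0 : X.Modules) := Coherent.isQCoh_of_isZero (isZero_zero _)
  obtain ⟨G, -, e, hG, -⟩ := CAlgSmall.FPExtend.exists_extension (0 : X.Modules) U
    (TopologicalSpace.NoetherianSpace.isCompact _) F (Coherent.isFP_of_isCoh hF) 0
  exact ⟨G, ⟨CAlgSmall.FPExtend.isQCoh_of_isFP G hG, CAlgSmall.FPExtend.isFT_of_isFP G hG⟩, ⟨e⟩⟩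

/-- An extension of a coherent module. -/
def ext (F : U.toScheme.Modules) : X.Modules := by
  classical exact if h : Coh.IsCoh F then (exists_ext F h).choose else 0

theorem ext_spec {F : U.toScheme.Modules} (h : Coh.IsCoh F) : Coh.IsCoh (ext F) ∧ Nonempty ((Rs).obj (ext F) ≅ F) := by
  rw [ext, dif_pos h]; exact (exists_ext F h).choose_spec

theorem ext_rel {S : ShortComplex U.toScheme.Modules} (hS : S.ShortExact) (h₁ : Coh.IsCoh S.X₁)
    (h₂ : Coh.IsCoh S.X₂) (h₃ : Coh.IsCoh S.X₃) :
    cl (ext S.X₂) - cl (ext S.X₁) - cl (ext S.X₃) ∈ off U := by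
  obtain ⟨hA, ⟨a⟩⟩ := ext_spec h₁
  obtain ⟨hB, ⟨b⟩⟩ := ext_spec h₂
  obtain ⟨hC, ⟨c⟩⟩ := ext_spec h₃
  obtain ⟨A', ι, φ, -, hA', hι, hφ⟩ :=
    SubAvoid14.exists_hom_extension (ext S.X₁) (ext S.X₂) hA hB U (a.hom ≫ S.f ≫ b.inv)
  haveI := hι
  haveI := hS.mono_f
  haveI := hS.epi_g
  haveI : Mono ((Rs).map φ) := by rw [hφ]; infer_instance
  let i : (Rs).obj A' ≅ S.X₁ := asIso ((Rs).map ι) ≪≫ a
  have hsq : (Rs).map φ ≫ b.hom = i.hom ≫ S.f := by simp [i, hφ]
  let e : (Rs).obj (cokernel φ) ≅ S.X₃ := PreservesCokernel.iso (Rs) φ ≪≫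
    cokernel.mapIso _ S.f i b hsq ≪≫ (cokernelIsCokernel S.f).coconePointUniqueUpToIso hS.gIsCokernel
  have hcok := Coherent.isCoh_cokernel φ hA'.1 hB
  have k₁ := sub_mem_of_hom (U := U) hA' hA ι
  have k₃ := sub_mem_of_iso (U := U) hC hcok (c ≪≫ e.symm)
  rw [cl_map hA' hB φ,
    show cl A' - cl (kernel φ) + cl (cokernel φ) - cl (ext S.X₁) - cl (ext S.X₃) =
      (cl (cokernel φ) - cl (ext S.X₃)) - (cl (ext S.X₁) - cl A') - cl (kernel φ) by abel]
  exact sub_mem (sub_mem k₃ k₁) (cl_mem_off (Coherent.isCoh_kernel φ hA' hB.1) (isZero_restrict_kernel φ))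

variable (U)

/-- The lifting map of `K₀` of `U`. -/
def lift : SGA6.Kcoh U.toScheme →+ SGA6.Kcoh X ⧸ off U :=
  QuotientAddGroup.lift _ (FreeAbelianGroup.lift fun F => QuotientAddGroup.mk' (off U) (cl (ext F.1))) (by
    rw [KZero.relSub, AddSubgroup.closure_le]
    rintro _ ⟨S, h₁, h₂, h₃, hS, rfl⟩
    rw [SetLike.mem_coe, AddMonoidHom.mem_ker, map_sub, map_sub, FreeAbelianGroup.lift_apply_of,
      FreeAbelianGroup.lift_apply_of, FreeAbelianGroup.lift_apply_of, ← map_sub, ← map_sub]
    exact (QuotientAddGroup.eq_zero_iff _).2 (ext_rel hS h₁ h₂ h₃))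

variable {U}

theorem lift_cl {F : U.toScheme.Modules} (hF : Coh.IsCoh F) :
    lift U (cl F) = QuotientAddGroup.mk' (off U) (cl (ext F)) := by
  rw [cl, KZero.clSub, dif_pos hF]
  exact FreeAbelianGroup.lift_apply_of _ _

theorem isCoh_res {F : X.Modules} (hF : Coh.IsCoh F) : Coh.IsCoh ((Rs).obj F) :=
  AmpleLib.isCoh_restrict U.ι F hF

variable (U)

/-- Restriction on `K₀` of coherent modules. -/
def res : SGA6.Kcoh X →+ SGA6.Kcoh U.toScheme :=
  SGA6.mapSub (Scheme.Modules.restrictFunctor U.ι) _ _ fun _ h => isCoh_res h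

variable {U}

theorem res_cl {F : X.Modules} (hF : Coh.IsCoh F) : res U (cl F) = cl ((Rs).obj F) := mapSub_clSub _ _ _ _ hF

theorem lift_res (x : SGA6.Kcoh X) : lift U (res U x) = QuotientAddGroup.mk' (off U) x := by
  refine KPr28.k0_induction (R := fun x => lift U (res U x) = QuotientAddGroup.mk' (off U) x)
    _ (by simp) (fun F hF => ?_) (fun a h => by simp only [map_neg, h]) (fun a b ha hb => by simp only [map_add, ha, hb]) x
  rw [res_cl hF, lift_cl (isCoh_res hF)]
  obtain ⟨hE, ⟨e⟩⟩ := ext_spec (isCoh_res (U := U) hF)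
  rw [← sub_eq_zero, ← map_sub]
  exact (QuotientAddGroup.eq_zero_iff _).2 (sub_mem_of_iso hF hE e.symm)

/-- A class restricting to zero is supported off `U`. -/
theorem mem_off_of_res {x : SGA6.Kcoh X} (hx : res U x = 0) : x ∈ off U := by
  have h := lift_res (U := U) x
  rw [hx, map_zero] at h
  exact (QuotientAddGroup.eq_zero_iff _).1 h.symm

theorem res_surjective : Function.Surjective (res U) := fun y => by
  refine KPr28.k0_induction (R := fun y => ∃ x, res U x = y) _ ⟨0, map_zero _⟩ (fun F hF => ?_)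
    (fun a ⟨x, h⟩ => ⟨-x, by rw [map_neg, h]⟩) (fun a b ⟨x, h⟩ ⟨x', h'⟩ => ⟨x + x', by rw [map_add, h, h']⟩) y
  obtain ⟨hE, ⟨e⟩⟩ := ext_spec (U := U) hF
  exact ⟨cl (ext F), by rw [res_cl hE]; exact KTop28.cl_iso e⟩

end Groth.Agent.KLoc28
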