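import Groth.Agent.KRR28.Filt
import Groth.Agent.KRR28.Local
import Groth.Agent.KLoc28.Restrict
import Groth.Agent.KSplit28.Model
import Groth.Agent.S3746
import Groth.Agent.CAlgH.Avramov
import Groth.Agent.EGA43.GeomIntegral.Dvr
import Groth.Agent.Coherent.HigherQcoh

/-!
# Classes of integral closed subschemes of codimension `n` lie in the rational γ-filtration `F^n`
-/

set_option autoImplicit false
set_option backward.isDefEq.respectTransparency false
set_option linter.style.haveILetI false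
set_option maxHeartbeats 400000

universe v u

open CategoryTheory CategoryTheory.Limits AlgebraicGeometry TopologicalSpace LambdaRing RingTheory.Sequence
attribute [local instance] HasDerivedCategory.standard

noncomputable section

namespace Groth.Agent.KLoc28

/-- Lifting the γ-filtration along a surjection of λ-rings. -/
theorem exists_gammaFiltration_lift {K : Type v} [CommRing K] [LambdaOps K] {P : PosStructure K} {K' : Type u}
    [CommRing K'] [LambdaOps K'] {P' : PosStructure K'} (g : K →+* K') (hg : Function.Surjective g)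
    (hl : ∀ (i : ℕ) (x : K), g (LambdaOps.lam i x) = LambdaOps.lam i (g x))
    (haug : ∀ x, P'.aug (g x) = P.aug x) {n : ℕ} {y : K'} (hy : y ∈ gammaFiltration P' n) :
    ∃ x ∈ gammaFiltration P n, g x = y := by
  rcases Nat.eq_zero_or_pos n with rfl | hn
  · obtain ⟨x, rfl⟩ := hg y; exact ⟨x, by simp [gammaFiltration], rfl⟩
  refine LambdaLib.gammaFiltration_induction P' hn.ne' (motive := fun b => ∃ a ∈ gammaFiltration P n, g a = b)
    (fun l h1 h2 => ?_) ⟨0, zero_mem _, map_zero g⟩
    (fun a b ⟨a', ha, e⟩ ⟨b', hb, e'⟩ => ⟨a' + b', add_mem ha hb, by rw [map_add, e, e']⟩)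
    (fun a ⟨a', ha, e⟩ => ⟨-a', neg_mem ha, by rw [map_neg, e]⟩) hy
  choose s hs using hg
  refine ⟨_, LambdaLib.gamma_prod_mem P (n := n) (l.map fun p => (p.1, s p.2)) (fun p hp => by
      obtain ⟨q, hq, rfl⟩ := List.mem_map.1 hp
      rw [← haug, hs]; exact h1 q hq) (by simpa [List.map_map, Function.comp_def] using h2), ?_⟩
  simp [map_list_prod, List.map_map, Function.comp_def, KRR28.gamma_map_hom g hl, hs]

variable {X : Scheme.{u}}

theorem isField_stalk_generic [IsIntegral X] : IsField (X.presheaf.stalk (genericPoint X)) :=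
  Field.toIsField X.functionField

theorem dim_le_of_specializes {a b : X} (h : a ⤳ b) :
    ringKrullDim (X.presheaf.stalk a) ≤ ringKrullDim (X.presheaf.stalk b) := by
  rw [AlgebraicGeometry.ringKrullDim_stalk_eq_coheight, AlgebraicGeometry.ringKrullDim_stalk_eq_coheight]
  exact_mod_cast Order.coheight_anti (show b ≤ a from h)

theorem exists_regular_gens {R : Type u} [CommRing R] [IsRegularLocalRing R] {m : ℕ}
    (hm : ringKrullDim R = m) : ∃ rs : List R, rs.length = m ∧ IsRegular R rs ∧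
      Ideal.ofList rs = IsLocalRing.maximalIdeal R := by
  have hfg : (IsLocalRing.maximalIdeal R).FG := Ideal.fg_of_isNoetherianRing _
  have hspan : (IsLocalRing.maximalIdeal R).spanFinrank = m := by
    have := (isRegularLocalRing_iff R).1 inferInstance
    exact_mod_cast this.trans hm
  let rs := (IsLocalRing.maximalIdeal R).generators
  have hfin : rs.Finite := Submodule.FG.finite_generators hfg
  refine ⟨hfin.toFinset.toList, ?_, ?_, ?_⟩
  · rw [Finset.length_toList, ← Set.ncard_eq_toFinset_card _ hfin, Submodule.FG.generators_ncard hfg, hspan]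
  · refine CAlgH.Avramov.isRegular_of_dim (fun x hx => ?_) ?_
    · exact Submodule.span_generators (IsLocalRing.maximalIdeal R) ▸
        Submodule.subset_span (hfin.mem_toFinset.1 (Finset.mem_toList.1 hx))
    · have e : Ideal.ofList hfin.toFinset.toList = IsLocalRing.maximalIdeal R := by
        rw [Ideal.ofList]; simp [rs, Ideal.span, Submodule.span_generators]
      rw [e, Finset.length_toList, ← Set.ncard_eq_toFinset_card _ hfin, Submodule.FG.generators_ncard hfg, hspan, hm]
      have : ringKrullDim (R ⧸ IsLocalRing.maximalIdeal R) = 0 := ringKrullDim_eq_zero_of_isField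
        ((Ideal.Quotient.maximal_ideal_iff_isField_quotient _).1 inferInstance)
      rw [this, zero_add]
  · rw [Ideal.ofList]; simp [rs, Ideal.span, Submodule.span_generators]

/-- The regular locus of an integral closed subscheme of a regular scheme, with the rank of its conormal module. -/
theorem exists_regular_restrict [IsNoetherian X] (hreg : ∀ x : X, IsRegularLocalRing (X.presheaf.stalk x))
    {W : Scheme.{u}} (i : W ⟶ X) [IsClosedImmersion i] [IsIntegral W] {m : ℕ}
    (hm : ringKrullDim (X.presheaf.stalk (i (genericPoint W))) = m) :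
    ∃ U : X.Opens, i (genericPoint W) ∈ U ∧ (Set.range i)ᶜ ⊆ (U : Set X) ∧ Mor2.IsRegularClosedImmersion (i ∣_ U) ∧
      FlatMod.IsFinLocFreeOfRank m (Omega.conormal (i ∣_ U)) := by
  set η := genericPoint W
  haveI := hreg (i η)
  obtain ⟨rs₀, hlen₀, hr₀, hspan₀⟩ := exists_regular_gens hm
  have hkη : RingHom.ker (i.stalkMap η).hom = IsLocalRing.maximalIdeal _ := by
    haveI : (⊥ : Ideal (W.presheaf.stalk η)).IsMaximal := Ring.isField_iff_maximal_bot.1 isField_stalk_generic
    exact IsLocalRing.eq_maximalIdeal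
      (Ideal.comap_isMaximal_of_surjective _ (i.stalkMap_surjective η) (K := ⊥))
  have hk₀ : RingHom.ker (i.stalkMap η).hom = Ideal.ofList rs₀ := hkη.trans hspan₀.symm
  obtain ⟨V, hηV, hV⟩ := (SDiv28.RegSpread.iff_ker_stalk i η).2 ⟨rs₀, hr₀, hk₀⟩
  let C : X.Opens := ⟨(Set.range i)ᶜ, i.isClosedEmbedding.isClosed_range.isOpen_compl⟩
  let U : X.Opens := V ⊔ C
  haveI hci : IsClosedImmersion (i ∣_ U) := IsZariskiLocalAtTarget.restrict ‹IsClosedImmersion i› U
  haveI : IsLocallyNoetherian U.toScheme := isLocallyNoetherian_of_isOpenImmersion U.ι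
  obtain ⟨h₁, h₂⟩ := KRR28.regular_of_stalks (i ∣_ U) (d := m) fun z => by
    obtain ⟨z, hz⟩ := z
    have hzV : i z ∈ V := by
      rcases hz with h | h
      · exact h
      · exact absurd ⟨z, rfl⟩ h
    obtain ⟨O, hO, hzO, rs, hrs, hker⟩ := hV.2 ⟨z, hzV⟩
    have hA : IsAffineOpen (V.ι ''ᵁ O) := hO.image_of_isOpenImmersion V.ι
    have hzA : i z ∈ V.ι ''ᵁ O := ⟨(i ∣_ V) ⟨z, hzV⟩, hzO, congrArg (fun f => f ⟨z, hzV⟩) (morphismRestrict_ι i V)⟩
    haveI := hV.1
    rw [Scheme.Hom.ker_apply (f := i ∣_ V), SDiv28.RegSpread.ker_restrict_app] at hker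
    let rs' : List Γ(X, V.ι ''ᵁ O) := rs
    have hrs' : IsRegular Γ(X, V.ι ''ᵁ O) rs' := hrs
    have hker' : RingHom.ker (i.app (V.ι ''ᵁ O)).hom = Ideal.ofList rs' := hker
    have hηA : i η ∈ V.ι ''ᵁ O :=
      ((genericPoint_specializes z).map i.continuous).mem_open (V.ι ''ᵁ O).2 hzA
    have hlen : rs'.length = m := by
      rw [← hlen₀, ← List.length_map (X.presheaf.germ (V.ι ''ᵁ O) (i η) hηA).hom (as := rs')]
      exact KRR28.length_eq_of_ofList_eq (IsLocalRing.le_maximalIdeal (RingHom.ker_ne_top (i.stalkMap η).hom))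
        (KRR28.isWeaklyRegular_germ hA hηA hrs'.toIsWeaklyRegular)
        (by rw [← Ideal.map_ofList, ← hker', CAlgH.RegImmStalk.ker_stalkMap_eq i η hA hηA])
        hr₀.toIsWeaklyRegular hk₀.symm
    let rz := rs'.map (X.presheaf.germ (V.ι ''ᵁ O) (i z) hzA).hom
    have hrz : IsWeaklyRegular (X.presheaf.stalk (i z)) rz :=
      KRR28.isWeaklyRegular_germ hA hzA hrs'.toIsWeaklyRegular
    have hkz : RingHom.ker (i.stalkMap z).hom = Ideal.ofList rz := by
      rw [CAlgH.RegImmStalk.ker_stalkMap_eq i z hA hzA, hker', Ideal.map_ofList]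
    let E := morphismRestrictStalkMap i U ⟨z, hz⟩
    let e : ↑(U.toScheme.presheaf.stalk ((i ∣_ U) ⟨z, hz⟩)) ≃+* ↑(X.presheaf.stalk (i z)) :=
      (Arrow.leftFunc.mapIso E).commRingCatIsoToRingEquiv
    refine ⟨rz.map e.symm, by simp [rz, hlen], ?_, ?_⟩
    · exact (e.symm.toAddEquiv.isWeaklyRegular_congr (List.forall₂_map_right_iff.2 (List.forall₂_same.2
        fun x _ y => by show e.symm (x * y) = e.symm x * e.symm y; rw [map_mul]))).1 hrz
    · have hsq : ∀ a, (Arrow.rightFunc.mapIso E).commRingCatIsoToRingEquiv (((i ∣_ U).stalkMap ⟨z, hz⟩) a) =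
          (i.stalkMap z) (e a) := fun a => congr($(E.hom.w).hom a).symm
      have hm' : Ideal.ofList (rz.map e.symm) = Ideal.map e.symm (RingHom.ker (i.stalkMap z).hom) := by
        rw [hkz]; exact (Ideal.map_ofList _ _).symm
      rw [hm']
      rw [Ideal.map_symm]
      ext a
      rw [Ideal.mem_comap, RingHom.mem_ker, RingHom.mem_ker]
      constructor
      · intro ha
        show (i.stalkMap z) (e a) = 0
        rw [← hsq, show ((i ∣_ U).stalkMap ⟨z, hz⟩) a = 0 from ha, map_zero]
      · intro ha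
        have := hsq a
        rw [show (i.stalkMap z) (e a) = 0 from ha] at this
        exact (EmbeddingLike.map_eq_zero_iff (f := (Arrow.rightFunc.mapIso E).commRingCatIsoToRingEquiv)).1 this
  exact ⟨U, Or.inl hηV, fun x hx => Or.inr hx, h₁, h₂⟩

/-- The class of a resolved module. -/
theorem mapSub_vbCl [IsLocallyNoetherian X] (hY : KRR.HasEnoughLocFree X) {P : ObjectProperty X.Modules}
    (hP : P = ResLF28.cohBdd X) (h : ∀ M, FlatMod.IsFinLocFree M → P ((𝟭 X.Modules).obj M)) (A : X.Modules) :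
    SGA6.mapSub (𝟭 X.Modules) (fun M : X.Modules => FlatMod.IsFinLocFree M) P h (KPush28.vbCl X hY A) =
      KZero.clSub P A := by
  subst hP
  exact KPush28.toBdd_vbCl hY A

/-- The Poincaré map commutes with restriction to opens. -/
theorem res_poincare [IsNoetherian X] (U : X.Opens) (hX : ∀ M : X.Modules, FlatMod.IsFinLocFree M → Coh.IsCoh M)
    (hU : ∀ M : U.toScheme.Modules, FlatMod.IsFinLocFree M → Coh.IsCoh M)
    {K : Type v} [CommRing K] {φ : SGA6.Kvb X →+ K} (hφ : Function.Bijective φ)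
    {K' : Type (u + 1)} [CommRing K'] {φ' : SGA6.Kvb U.toScheme →+ K'} (hφ' : Function.Bijective φ')
    {g : K →+* K'} (hg : KRR.IsPull U.ι φ φ' g.toAddMonoidHom) (z : SGA6.Kvb X) :
    res U (SGA6.mapSub (𝟭 X.Modules) (KRR.vbP X) (fun M : X.Modules => Coh.IsCoh M) hX z) =
      SGA6.mapSub (𝟭 U.toScheme.Modules) (KRR.vbP U.toScheme) (fun M : U.toScheme.Modules => Coh.IsCoh M) hU
        ((AddEquiv.ofBijective φ' hφ').symm (g (φ z))) := by
  refine KvbLam28.kvb_induction (P := fun z => res U (SGA6.mapSub _ _ _ hX z) =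
    SGA6.mapSub _ _ _ hU ((AddEquiv.ofBijective φ' hφ').symm (g (φ z)))) (by simp) (fun E hE => ?_)
    (fun a h => by simp only [map_neg, h]) (fun a b ha hb => by simp only [map_add, ha, hb]) z
  rw [show g (φ (KRR.cl X E)) = _ from hg E hE]
  erw [(AddEquiv.ofBijective φ' hφ').symm_apply_apply]
  rw [ResLF28.mapSub_clSub _ _ hX hE]
  rw [show KRR.cl U.toScheme _ = KZero.clSub (KRR.vbP U.toScheme) _ from rfl,
    ResLF28.mapSub_clSub _ _ hU (FlatMorAdm.isFinLocFree_pullback U.ι hE)]
  exact (res_cl (hX E hE)).trans (KTop28.cl_iso ((Scheme.Modules.restrictFunctorIsoPullback U.ι).app E))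

/-- Pull-back on models in arbitrary universes. -/
theorem exists_pull_hom {Y : Scheme.{u}} [ConnectedSpace ↥X] [ConnectedSpace ↥Y] (f : Y ⟶ X) {K : Type v} [CommRing K]
    [LambdaOps K] {P : PosStructure K} {φ : SGA6.Kvb X →+ K} (hK : KRR.IsModel X K P φ)
    {K' : Type (u + 1)} [CommRing K'] [LambdaOps K'] {P' : PosStructure K'} {φ' : SGA6.Kvb Y →+ K'}
    (hK' : KRR.IsModel Y K' P' φ') :
    ∃ g : K →+* K', KRR.IsPull f φ φ' g.toAddMonoidHom ∧
      (∀ (i : ℕ) (x : K), g (LambdaOps.lam i x) = LambdaOps.lam i (g x)) ∧ ∀ x, P'.aug (g x) = P.aug x := by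
  obtain ⟨K₀, _, _, P₀, φ₀, hK₀⟩ := KModel28.exists_model X
  obtain ⟨g, hg, hgl, hgaug, -⟩ := KSplit28.exists_pullHom f hK' hK₀
  obtain ⟨a, ha, haφ, hal, haug⟩ := KSplit28.exists_iso hK hK₀
  refine ⟨g.comp a, fun E hE => ?_, fun i x => ?_, fun x => (hgaug _).trans (haug x)⟩
  · show g (a _) = _
    rw [haφ]; exact hg E hE
  · show g (a _) = LambdaOps.lam i (g (a x))
    rw [hal]; exact hgl i _

/-- Codimension `≥ n` points have classes in the rational `F^n`. -/
theorem mem_rational_gammaFiltration [IsNoetherian X] [ConnectedSpace ↥X] {L : X.Modules} (hL : CohB1.IsAmple L)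
    (hreg : ∀ x : X, IsRegularLocalRing (X.presheaf.stalk x))
    {K : Type v} [CommRing K] [LambdaOps K] {P : PosStructure K} {φ : SGA6.Kvb X →+ K} (hK : KRR.IsModel X K P φ)
    (hX : ∀ M : X.Modules, FlatMod.IsFinLocFree M → Coh.IsCoh M) (n : ℕ)
    (y : X) (hy : (n : WithBot ℕ∞) ≤ ringKrullDim (X.presheaf.stalk y)) :
    ∃ (N : ℕ) (z : SGA6.Kvb X), 1 ≤ N ∧ φ z ∈ gammaFiltration P n ∧
      N • cl (CycLib28.InterSheaf.pointSheaf y) =
        SGA6.mapSub (𝟭 X.Modules) (KRR.vbP X) (fun M : X.Modules => Coh.IsCoh M) hX z := by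
  have hY := KRR28.enough_of_ample hL
  haveI : IsIntegral X := EGA43.GeomIntegral.isIntegral_of_isDomain_stalk fun x => by
    haveI := hreg x; exact CAlgH3.isDomain_of_isRegularLocalRing _
  let Pc := SGA6.mapSub (𝟭 X.Modules) (KRR.vbP X) (fun M : X.Modules => Coh.IsCoh M) hX
  let A : AddSubgroup (SGA6.Kcoh X) :=
    { carrier := {c | ∃ (N : ℕ) (z : SGA6.Kvb X), 1 ≤ N ∧ φ z ∈ gammaFiltration P n ∧ N • c = Pc z}
      zero_mem' := ⟨1, 0, le_rfl, by simp, by simp⟩
      add_mem' := by
        rintro a b ⟨N, z, hN, hz, e⟩ ⟨N', z', hN', hz', e'⟩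
        refine ⟨N * N', N' • z + N • z', Nat.one_le_iff_ne_zero.2 (by positivity), ?_, ?_⟩
        · rw [map_add, map_nsmul, map_nsmul]
          exact add_mem (nsmul_mem hz _) (nsmul_mem hz' _)
        · rw [map_add, map_nsmul, map_nsmul, ← e, ← e', nsmul_add, smul_smul, smul_smul, mul_comm N' N]
      neg_mem' := by
        rintro a ⟨N, z, hN, hz, e⟩
        exact ⟨N, -z, hN, by rw [map_neg]; exact neg_mem hz, by rw [map_neg, ← e, neg_nsmul]⟩ }
  suffices key : ∀ (Z : Closeds X) (y : X), (Z : Set X) = closure {y} →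
      (n : WithBot ℕ∞) ≤ ringKrullDim (X.presheaf.stalk y) → cl (CycLib28.InterSheaf.pointSheaf y) ∈ A from
    key ⟨closure {y}, isClosed_closure⟩ y rfl hy
  intro Z
  induction Z using WellFoundedLT.induction with
  | _ Z ih => ?_
  intro y hZ hy
  haveI := hreg y
  obtain ⟨m, hm⟩ : ∃ m : ℕ, ringKrullDim (X.presheaf.stalk y) = m := ⟨_, (isRegularLocalRing_iff _).1 inferInstance |>.symm⟩
  have hnm : n ≤ m := by rw [hm] at hy; exact_mod_cast hy
  haveI := CycLib28.isIntegral_ptIdeal y
  let ι := (IntMult.ptIdeal y).subschemeι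
  have hrange : Set.range ι = closure {y} := by
    ext x
    rw [← specializes_iff_mem_closure, ← CycLib28.mem_support_ptIdeal]
    exact Set.ext_iff.1 (IntMult.ptIdeal y).range_subschemeι x
  have hgen : ι (genericPoint (IntMult.ptIdeal y).subscheme) = y := by
    obtain ⟨z, hz⟩ : y ∈ Set.range ι := hrange.ge (subset_closure rfl)
    refine ((specializes_iff_mem_closure.2 (hrange.le ⟨_, rfl⟩)).antisymm ?_).eq.symm
    have h := (genericPoint_specializes z).map ι.continuous
    rwa [hz] at h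
  obtain ⟨U, hηU, hCU, hreg', hC'⟩ := exists_regular_restrict hreg ι (m := m) (by rw [hgen]; exact hm)
  rw [hgen] at hηU
  haveI : Nonempty U := ⟨⟨y, hηU⟩⟩
  haveI : CompactSpace U.toScheme := isCompact_iff_compactSpace.1 (NoetherianSpace.isCompact (U : Set X))
  haveI : IsLocallyNoetherian U.toScheme := isLocallyNoetherian_of_isOpenImmersion U.ι
  haveI : IsNoetherian U.toScheme := {}
  haveI : IsIso (⊤ : X.Opens).ι := by rw [← Scheme.topIso_hom]; infer_instance
  haveI : IsIntegral U.toScheme := isIntegral_of_isOpenImmersion U.ι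
  haveI : IsLocallyNoetherian (IntMult.ptIdeal y).subscheme := LocallyOfFiniteType.isLocallyNoetherian ι
  haveI : CompactSpace (IntMult.ptIdeal y).subscheme := ι.isClosedEmbedding.compactSpace
  haveI : IsNoetherian (IntMult.ptIdeal y).subscheme := {}
  haveI : Nonempty (ι ⁻¹ᵁ U) := ⟨⟨genericPoint _, by show ι _ ∈ U; rw [hgen]; exact hηU⟩⟩
  haveI : IsIntegral (ι ⁻¹ᵁ U).toScheme := isIntegral_of_isOpenImmersion (ι ⁻¹ᵁ U).ι
  obtain ⟨A', hA'⟩ : ∃ A' : U.toScheme.Modules, CohB1.IsAmple A' :=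
    ⟨_, AmpleLib.isAmple_pullback_of_range_subset U.ι U.ι.isOpenEmbedding.isEmbedding ⊤ (fun _ _ => trivial)
      (AmpleLib.isAmple_pullback_of_isAffineHom _ hL)⟩
  have hU' : ∀ M : U.toScheme.Modules, FlatMod.IsFinLocFree M → Coh.IsCoh M := fun M h =>
    Coherent.CohBC.isCoh_of_isFinLocFree h
  have hregU : ∀ x : U.toScheme, IsRegularLocalRing (U.toScheme.presheaf.stalk x) := fun x => by
    haveI := hreg x.1
    exact IsRegularLocalRing.of_ringEquiv (U.stalkIso x).symm.commRingCatIsoToRingEquiv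
  have hYU := KRR28.enough_of_ample hA'
  obtain ⟨KU, _, _, PU, φU, hKU⟩ := KModel28.exists_model U.toScheme
  obtain ⟨KW, _, _, PW, φW, hKW⟩ := KModel28.exists_model (ι ⁻¹ᵁ U).toScheme
  obtain ⟨g, hg, hgl, hgaug⟩ := exists_pull_hom U.ι hK hKU
  haveI := hreg'.1
  obtain ⟨h, hh, -⟩ := KPush28.existsUnique_isPushCl (ι ∣_ U) hYU hreg' φW hKW.bijective φU
  obtain ⟨N, hN, hN'⟩ := KRR28.rational_filtration_pushCl' hA' (ι ∣_ U) hreg' hC' hKW hKU hh
    (n := 0) (x := φW (KRR.cl _ (Coh.structureModule _))) (by simp [gammaFiltration])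
  rw [zero_add] at hN'
  have hsurj : Function.Surjective g := fun w => by
    obtain ⟨zw, rfl⟩ := hKU.bijective.2 w
    obtain ⟨x, hx⟩ := res_surjective (U := U)
      (SGA6.mapSub (𝟭 U.toScheme.Modules) (KRR.vbP U.toScheme) (fun M : U.toScheme.Modules => Coh.IsCoh M) hU' zw)
    obtain ⟨z, rfl⟩ := (S3746.result X hreg hY hX).2 x
    refine ⟨φ z, ?_⟩
    rw [res_poincare U hX hU' hK.bijective hKU.bijective hg] at hx
    have := (S3746.result U.toScheme hregU hYU hU').1 hx
    rw [← this]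
    exact ((AddEquiv.ofBijective φU hKU.bijective).apply_symm_apply _).symm
  obtain ⟨w, hw, hgw⟩ := exists_gammaFiltration_lift g hsurj hgl hgaug hN'
  obtain ⟨z, rfl⟩ := hK.bijective.2 w
  have hpt := CycLib28.InterSheaf.isCoh_pointSheaf y
  -- the restriction of the class
  have hstr : FlatMod.IsFinLocFree (Coh.structureModule (ι ⁻¹ᵁ U).toScheme) :=
    VarietyLib.isFinLocFree_of_rank KModel28.rank_structure
  have e : res U (N • cl (CycLib28.InterSheaf.pointSheaf y) - Pc z) = 0 := by
    rw [map_sub, map_nsmul, res_poincare U hX hU' hK.bijective hKU.bijective hg, hgw,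
      KPush28.isPushCl_apply hYU hh hstr (KPush28.cohBdd_push _ hYU hreg' hstr), ← nsmul_eq_mul, map_nsmul]
    erw [(AddEquiv.ofBijective φU hKU.bijective).symm_apply_apply]
    rw [map_nsmul, mapSub_vbCl hYU (ResLF28.isCoh_eq_cohBdd hregU hYU) hU', res_cl hpt]
    refine sub_eq_zero.2 (congrArg (N • ·) (KTop28.cl_iso ?_))
    exact (Coherent.pushRestrictIso ι U).app _ ≪≫
      (Scheme.Modules.pushforward (ι ∣_ U)).mapIso (Scheme.Modules.restrictUnitIso (ι ⁻¹ᵁ U).ι)
  have hoff : off U ≤ A := by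
    refine (AddSubgroup.closure_le _).2 ?_
    rintro _ ⟨G, hG, hs, rfl⟩
    refine (AddSubgroup.closure_le A).2 ?_ (KTop28.cl_mem_closure_points G hG)
    rintro _ ⟨x, hx, rfl⟩
    have hxU : x ∉ U := hs hx
    have hyx : y ⤳ x := specializes_iff_mem_closure.2 (by
      rw [← hrange]
      by_contra h
      exact hxU (hCU h))
    refine ih ⟨closure {x}, isClosed_closure⟩ ?_ x rfl (hy.trans (dim_le_of_specializes hyx))
    refine lt_of_le_of_ne (show closure {x} ⊆ (Z : Set X) from ?_) fun hh => hxU ?_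
    · rw [hZ]; exact isClosed_closure.closure_subset_iff.2 (Set.singleton_subset_iff.2 (specializes_iff_mem_closure.1 hyx))
    · have hxy : x ⤳ y := specializes_iff_mem_closure.2 (by
        rw [show closure {x} = (Z : Set X) from congrArg SetLike.coe hh, hZ]; exact subset_closure rfl)
      exact (hxy.antisymm hyx).eq ▸ hηU
  obtain ⟨M, z', hM, hz', e'⟩ := hoff (mem_off_of_res e)
  refine ⟨M * N, z' + M • z, Nat.one_le_iff_ne_zero.2 (by positivity), ?_, ?_⟩
  · rw [map_add, map_nsmul]
    exact add_mem hz' (nsmul_mem (LambdaLib.gammaFiltration_antitone P hnm hw) _)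
  · rw [map_add, map_nsmul, ← e', nsmul_sub, smul_smul, sub_add_cancel]

end Groth.Agent.KLoc28
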