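import Groth.Agent.KLoc28.Restrict
import Groth.Agent.Resolution28.Basic

/-!
# Classes supported on a closed subscheme come from it; the localization sequence
-/

set_option autoImplicit false
set_option backward.isDefEq.respectTransparency false
set_option linter.style.haveILetI false

universe u

open CategoryTheory CategoryTheory.Limits AlgebraicGeometry TopologicalSpace Groth.Agent.Coherent

noncomputable section

namespace Groth.Agent.KLoc28

variable {X Z : Scheme.{u}} [IsNoetherian X] (i : Z ⟶ X) [IsClosedImmersion i]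

instance preservesFiniteLimits_push : PreservesFiniteLimits (Coh.push i) :=
  have : (Coh.push i).IsRightAdjoint := (Scheme.Modules.pullbackPushforwardAdjunction i).isRightAdjoint
  ⟨fun _ _ _ => inferInstance⟩

theorem shortExact_push {S : ShortComplex Z.Modules} (hS : S.ShortExact) : (S.map (Coh.push i)).ShortExact :=
  KPush28.shortExact_push i hS

/-- The push-forward on `K₀` of coherent modules of a closed immersion. -/
theorem exists_push : ∃ g : SGA6.Kcoh Z →+ SGA6.Kcoh X, ∀ F : Z.Modules, Coh.IsCoh F → g (cl F) = cl ((Coh.push i).obj F) := by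
  haveI := KZeroLib.cohZ_noetherian i
  obtain ⟨g, hg⟩ := KPr28.exists_k0lift (A := Z.Modules) (G := SGA6.Kcoh X) (fun G : Z.Modules => Coh.IsCoh G)
    (fun F => cl ((Coh.push i).obj F)) fun S hS h₁ h₂ h₃ =>
      KTop28.cl_ses (shortExact_push i hS) (Coherent.isCoh_push_finite i h₁) (Coherent.isCoh_push_finite i h₂)
        (Coherent.isCoh_push_finite i h₃)
  exact ⟨g, hg⟩

variable {i}

/-- Classes of modules supported on the subscheme come from it. -/
theorem mem_range_of_support {g : SGA6.Kcoh Z →+ SGA6.Kcoh X}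
    (hg : ∀ F : Z.Modules, Coh.IsCoh F → g (cl F) = cl ((Coh.push i).obj F))
    {G : X.Modules} (hG : Coh.IsCoh G) (hs : CohB1.support G ⊆ Set.range i) : cl G ∈ g.range := by
  obtain ⟨φ, hφ⟩ := KZeroLib.exists_equiv_closed i
  obtain ⟨forget, hforget⟩ := KPr28.exists_k0lift (A := X.Modules) (G := SGA6.Kcoh X)
    (KZeroLib.cohSupp X (Set.range i)) (fun F => cl F) fun S hS h₁ h₂ h₃ => KTop28.cl_ses hS h₁.1 h₂.1 h₃.1
  have key : forget.comp φ.toAddMonoidHom = g := by
    refine AddMonoidHom.ext fun y => ?_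
    refine KPr28.k0_induction (R := fun y => forget (φ y) = g y) _ (by simp) (fun F hF => ?_)
      (fun a h => by simp [h]) (fun a b ha hb => by simp [ha, hb]) y
    show forget (φ (KZero.clSub KZeroLib.cohZ F)) = _
    rw [hφ F hF, hforget _ (KZeroLib.cohSupp_of_killedCoh i (KZeroLib.prop_push i hF))]
    exact (hg F hF).symm
  refine ⟨φ.symm (KZero.clSub _ G), ?_⟩
  rw [← key]
  show forget (φ (φ.symm _)) = _
  rw [AddEquiv.apply_symm_apply, hforget G ⟨hG, hs⟩]

theorem off_le_range {U : X.Opens} (hU : (U : Set X) = (Set.range i)ᶜ) {g : SGA6.Kcoh Z →+ SGA6.Kcoh X}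
    (hg : ∀ F : Z.Modules, Coh.IsCoh F → g (cl F) = cl ((Coh.push i).obj F)) : off U ≤ g.range := by
  refine (AddSubgroup.closure_le _).2 ?_
  rintro _ ⟨G, hG, hs, rfl⟩
  exact mem_range_of_support hg hG (by rw [hU, compl_compl] at hs; exact hs)

theorem isZero_res_push {U : X.Opens} (hU : (U : Set X) = (Set.range i)ᶜ) (F : Z.Modules) :
    IsZero ((Scheme.Modules.restrictFunctor U.ι).obj ((Coh.push i).obj F)) := by
  haveI : IsIso ((Scheme.Modules.restrictFunctor U.ι).map (0 : (Coh.push i).obj F ⟶ (Coh.push i).obj F)) := by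
    refine SubAvoid14.isIso_restrict_of_bijective _ U fun z hz => ?_
    haveI : Subsingleton ((DerSch.stalkFunctor X z).obj ((Coh.push i).obj F)) :=
      DCat.ClosedPush.subsingleton_stalk_push i F z (hU.le hz)
    exact Function.bijective_of_subsingleton _
  rw [IsZero.iff_id_eq_zero, ← cancel_epi ((Scheme.Modules.restrictFunctor U.ι).map (0 : (Coh.push i).obj F ⟶ _))]
  rw [Functor.map_zero, zero_comp, comp_zero]

theorem range_le_ker {U : X.Opens} (hU : (U : Set X) = (Set.range i)ᶜ) {g : SGA6.Kcoh Z →+ SGA6.Kcoh X}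
    (hg : ∀ F : Z.Modules, Coh.IsCoh F → g (cl F) = cl ((Coh.push i).obj F)) : g.range ≤ (res U).ker := by
  haveI := KZeroLib.cohZ_noetherian i
  rintro _ ⟨y, rfl⟩
  refine KPr28.k0_induction (R := fun y => g y ∈ (res U).ker) _ (by simp) (fun F hF => ?_)
    (fun a h => by simp only [map_neg]; exact neg_mem h) (fun a b ha hb => by simp only [map_add]; exact add_mem ha hb) y
  rw [AddMonoidHom.mem_ker, hg F hF, res_cl (Coherent.isCoh_push_finite i hF)]
  haveI : IsLocallyNoetherian U.toScheme := isLocallyNoetherian_of_isOpenImmersion U.ι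
  exact KTop28.cl_isZero (isZero_res_push hU F)

theorem ker_res_eq {U : X.Opens} (hU : (U : Set X) = (Set.range i)ᶜ) {g : SGA6.Kcoh Z →+ SGA6.Kcoh X}
    (hg : ∀ F : Z.Modules, Coh.IsCoh F → g (cl F) = cl ((Coh.push i).obj F)) : (res U).ker = g.range :=
  le_antisymm (fun _ hx => off_le_range hU hg (mem_off_of_res hx)) (range_le_ker hU hg)

end Groth.Agent.KLoc28
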